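import Groth.Agent.Synt29.OmegaAffine
import Groth.Agent.QCoh.FT

/-!
# Sections of a universal derivation over an affine open
-/

set_option autoImplicit false
set_option backward.isDefEq.respectTransparency false
set_option backward.isDefEq.respectTransparency.types false
set_option linter.style.haveILetI false
set_option maxHeartbeats 1000000

universe u

open CategoryTheory CategoryTheory.Limits AlgebraicGeometry TopologicalSpace Opposite

noncomputable section

namespace Groth.Agent.H1VB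

open Groth.Agent Groth.Agent.Synt29 Groth.Agent.Synt29.OmegaStalk

/-- The Kähler differentials are the sections of a universal derivation over an affine open. -/
theorem exists_kaehler_equiv {X Y : Scheme.{u}} {f : X ⟶ Y} {Ω : X.Modules} {d : OmegaSh.Der f Ω}
    (hd : OmegaSh.IsUniversal d) {U : X.Opens} (hU : IsAffineOpen U) {V : Y.Opens} (hV : IsAffineOpen V)
    (e : U ≤ f ⁻¹ᵁ V) :
    letI := (f.appLE V U e).hom.toAlgebra
    ∃ ε : Ω[Γ(X, U)⁄Γ(Y, V)] ≃ₗ[Γ(X, U)] Γ(Ω, U), ∀ b, ε (KaehlerDifferential.D Γ(Y, V) Γ(X, U) b) = d.app U b := by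
  letI := (f.appLE V U e).hom.toAlgebra
  obtain ⟨i, hi⟩ := exists_iso_chart hd hU hV e
  let L : Γ(Ω, U) ≃ₗ[Γ(X, U)] (Ω[Γ(X, U)⁄Γ(Y, V)]) := (QCoh.chartEquiv hU Ω).trans
    (((moduleSpecΓFunctor.mapIso i).trans
      (tilde.isoTop (R := Γ(X, U)) (ModuleCat.of Γ(X, U) (Ω[Γ(X, U)⁄Γ(Y, V)]))).symm).toLinearEquiv)
  refine ⟨L.symm, fun b => (LinearEquiv.symm_apply_eq L).2 ?_⟩
  -- the class of `b` on the chart
  have key : ∀ (W : X.Opens) (h : W ≤ U) (s : Γ(X, W)), s = X.presheaf.map (homOfLE h).op b →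
      d.app W s = Ω.presheaf.map (homOfLE h).op (d.app U b) := by
    rintro W h _ rfl
    exact app_res Ω d (homOfLE h) b
  have hs : (hU.fromSpec.appIso ⊤).inv (OmAff.toΓ Γ(X, U) b) =
      X.presheaf.map (homOfLE (QCoh.image_top_fromSpec hU).le).op b := by
    have h1 : OmAff.toΓ Γ(X, U) b = (hU.fromSpec.appIso ⊤).hom
        (X.presheaf.map (homOfLE (QCoh.image_top_fromSpec hU).le).op b) := by
      rw [Scheme.Hom.appIso_hom', ← ConcreteCategory.comp_apply, Scheme.Hom.map_appLE, Scheme.Hom.appLE,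
        hU.fromSpec_app_self]
      simp only [Category.assoc, ← Functor.map_comp]
      rw [← OmegaLib.toΓ_res]
      rfl
    rw [h1, Iso.hom_inv_id_apply]
  have h2 : QCoh.toChart hU Ω (d.app U b) =
      (show Γ(Ω.restrict hU.fromSpec, ⊤) from d.app (hU.fromSpec ''ᵁ ⊤) ((hU.fromSpec.appIso ⊤).inv (OmAff.toΓ Γ(X, U) b))) :=
    (key _ (QCoh.image_top_fromSpec hU).le _ hs).symm
  show KaehlerDifferential.D _ _ b = (tilde.isoTop (R := Γ(X, U)) (ModuleCat.of Γ(X, U) (Ω[Γ(X, U)⁄Γ(Y, V)]))).inv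
    (i.hom.app ⊤ (QCoh.toChart hU Ω (d.app U b)))
  rw [h2]
  refine Eq.trans ?_ (congrArg _ (hi b).symm)
  exact ((tilde.isoTop (R := Γ(X, U)) (ModuleCat.of Γ(X, U) (Ω[Γ(X, U)⁄Γ(Y, V)]))).hom_inv_id_apply _).symm

end Groth.Agent.H1VB
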