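import Mathlib

/-!
# Differentials of a symmetric algebra
-/

set_option autoImplicit false
set_option linter.style.haveILetI false
set_option maxHeartbeats 1000000

universe u

noncomputable section

namespace Groth.Agent.H1VB

open TrivSqZeroExt

/-- The differentials of the symmetric algebra of `M` are the base change of `M`. -/
theorem bijective_symOmega {R B M N : Type u} [CommRing R] [CommRing B] [Algebra R B] [AddCommGroup M] [Module R M]
    (e : SymmetricAlgebra R M ≃ₐ[R] B) [AddCommGroup N] [Module B N] [Module R N] [IsScalarTower R B N]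
    {l : M →ₗ[R] N} (hl : IsBaseChange B l) (Φ : N →ₗ[B] Ω[B⁄R])
    (hΦ : ∀ m, Φ (l m) = KaehlerDifferential.D R B (e (SymmetricAlgebra.ι R M m))) : Function.Bijective Φ := by
  letI : Module Bᵐᵒᵖ N := Module.compHom N (RingEquiv.toOpposite B).symm.toRingHom
  haveI : IsCentralScalar B N := ⟨fun a x => rfl⟩
  haveI : SMulCommClass B Bᵐᵒᵖ N := ⟨fun a b x => smul_comm a b.unop x⟩
  haveI : IsScalarTower R Bᵐᵒᵖ N := ⟨fun r b x => by
    show (r • b).unop • x = r • (b.unop • x)
    rw [MulOpposite.unop_smul, smul_assoc]⟩
  let f : M →ₗ[R] TrivSqZeroExt B N :=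
    { toFun := fun m => inl (e (SymmetricAlgebra.ι R M m)) + inr (l m)
      map_add' := fun a b => by ext <;> simp
      map_smul' := fun r a => by ext <;> simp }
  let F : B →ₐ[R] TrivSqZeroExt B N := (SymmetricAlgebra.lift f).comp e.symm.toAlgHom
  have hF : ∀ m, F (e (SymmetricAlgebra.ι R M m)) = f m := fun m => by
    show SymmetricAlgebra.lift f (e.symm (e (SymmetricAlgebra.ι R M m))) = f m
    rw [e.symm_apply_apply, SymmetricAlgebra.lift_ι_apply]
  have hfst : ∀ b, (F b).fst = b := by
    have h : (fstHom R B N).comp (F.comp e.toAlgHom) = e.toAlgHom := SymmetricAlgebra.algHom_ext (LinearMap.ext fun m => by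
      show (F (e _)).fst = e _
      rw [hF]
      simp [f])
    intro b
    have := AlgHom.congr_fun h (e.symm b)
    simpa using this
  let δ : Derivation R B N :=
    { toFun := fun b => (F b).snd
      map_add' := fun a b => by simp
      map_smul' := fun r a => by simp
      map_one_eq_zero' := by simp
      leibniz' := fun a b => by
        show (F (a * b)).snd = a • (F b).snd + b • (F a).snd
        rw [map_mul, snd_mul, hfst, hfst, op_smul_eq_smul] }
  let Ψ : Ω[B⁄R] →ₗ[B] N := δ.liftKaehlerDifferential
  have h1 : Ψ ∘ₗ Φ = LinearMap.id := by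
    refine hl.algHom_ext _ _ fun m => ?_
    show Ψ (Φ (l m)) = l m
    rw [hΦ, Derivation.liftKaehlerDifferential_comp_D]
    show (F (e _)).snd = l m
    rw [hF]
    simp [f]
  have h2 : Φ ∘ₗ Ψ = LinearMap.id := by
    refine Derivation.liftKaehlerDifferential_unique _ _ (Derivation.ext fun b => ?_)
    show Φ (Ψ (KaehlerDifferential.D R B b)) = KaehlerDifferential.D R B b
    rw [Derivation.liftKaehlerDifferential_comp_D]
    obtain ⟨a, rfl⟩ := e.surjective b
    induction a using SymmetricAlgebra.induction with
    | algebraMap r =>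
      show Φ (δ (e _)) = _
      rw [AlgEquiv.commutes, Derivation.map_algebraMap, Derivation.map_algebraMap, map_zero]
    | ι m =>
      show Φ ((F (e _)).snd) = _
      rw [hF]
      simp [f, hΦ]
    | mul a b ha hb =>
      rw [map_mul, δ.leibniz, Derivation.leibniz, map_add, map_smul, map_smul, ha, hb]
    | add a b ha hb => rw [map_add, map_add, map_add, map_add, ha, hb]
  exact ⟨Function.HasLeftInverse.injective ⟨Ψ, LinearMap.congr_fun h1⟩,
    Function.HasRightInverse.surjective ⟨Ψ, LinearMap.congr_fun h2⟩⟩

end Groth.Agent.H1VB
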